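import Mathlib
import Groth.Prelude.Def_CInt

universe u
open CategoryTheory CategoryTheory.Limits AlgebraicGeometry TopologicalSpace

namespace Groth.Agent.Lib.Helper6.SchDense

variable {X : Scheme.{u}}

/-- the prime of an affine chart at a point is the contraction of the maximal ideal. -/
lemma primeIdealOf_asIdeal {W : X.Opens} (hW : IsAffineOpen W) (x : X) (hx : x ∈ W) :
    (hW.primeIdealOf ⟨x, hx⟩).asIdeal =
      (IsLocalRing.maximalIdeal (X.presheaf.stalk x)).comap (X.presheaf.germ W x hx).hom := by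
  rw [hW.primeIdealOf_eq_map_closedPoint]
  rfl

lemma mem_primeIdealOf_iff {W : X.Opens} (hW : IsAffineOpen W) (x : X) (hx : x ∈ W)
    (τ : Γ(X, W)) : τ ∈ (hW.primeIdealOf ⟨x, hx⟩).asIdeal ↔ x ∉ X.basicOpen τ := by
  rw [primeIdealOf_asIdeal hW x hx, Ideal.mem_comap, IsLocalRing.mem_maximalIdeal, mem_nonunits_iff,
    Scheme.mem_basicOpen X τ x hx]

lemma primeIdealOf_fromSpec {W : X.Opens} (hW : IsAffineOpen W) (y : PrimeSpectrum Γ(X, W))
    (hy : hW.fromSpec y ∈ W) : hW.primeIdealOf ⟨hW.fromSpec y, hy⟩ = y := by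
  apply hW.fromSpec.isOpenEmbedding.injective
  exact hW.fromSpec_primeIdealOf ⟨hW.fromSpec y, hy⟩

/-- Lemma A: associated points can be detected on affine charts. -/
lemma assoc_iff [IsLocallyNoetherian X] {W : X.Opens} (hW : IsAffineOpen W) (x : X) (hx : x ∈ W) :
    IsAssociatedPrime (IsLocalRing.maximalIdeal (X.presheaf.stalk x)) (X.presheaf.stalk x) ↔
    IsAssociatedPrime (hW.primeIdealOf ⟨x, hx⟩).asIdeal Γ(X, W) := by
  let _ := X.presheaf.algebra_section_stalk ⟨x, hx⟩
  have := hW.isLocalization_stalk ⟨x, hx⟩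
  have : IsNoetherianRing Γ(X, W) := IsLocallyNoetherian.component_noetherian ⟨W, hW⟩
  have h := Module.associatedPrimes.preimage_comap_associatedPrimes_eq_associatedPrimes_of_isLocalizedModule
    (hW.primeIdealOf ⟨x, hx⟩).asIdeal.primeCompl (X.presheaf.stalk x)
    (Algebra.linearMap Γ(X, W) (X.presheaf.stalk x))
  have hc : (IsLocalRing.maximalIdeal (X.presheaf.stalk x)).comap
      (algebraMap Γ(X, W) (X.presheaf.stalk x)) = (hW.primeIdealOf ⟨x, hx⟩).asIdeal :=
    (primeIdealOf_asIdeal hW x hx).symm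
  rw [← AssociatedPrimes.mem_iff, ← h, Set.mem_preimage, hc, AssociatedPrimes.mem_iff]

end Groth.Agent.Lib.Helper6.SchDense

namespace Groth.Agent.Lib.Helper6.SchDense

variable {X : Scheme.{u}}

lemma eq_zero_of_germ {V : X.Opens} (s : Γ(X, V))
    (h : ∀ (y : X) (hy : y ∈ V), X.presheaf.germ V y hy s = 0) : s = 0 :=
  TopCat.Presheaf.section_ext X.sheaf V s 0
    (fun y hy => (h y hy).trans (map_zero (X.presheaf.germ V y hy).hom).symm)

/-- schematically dense opens contain all associated points -/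
lemma assoc_mem_of_dense [IsLocallyNoetherian X] (U : X.Opens) (hU : CInt.IsSchematicallyDense U)
    (x : X) (hx : IsAssociatedPrime (IsLocalRing.maximalIdeal (X.presheaf.stalk x))
      (X.presheaf.stalk x)) : x ∈ U := by
  by_contra hxU
  obtain ⟨_, ⟨W, hW : IsAffineOpen W, rfl⟩, hxW, -⟩ :=
    X.isBasis_affineOpens.exists_subset_of_mem_open (Set.mem_univ x) isOpen_univ
  have : IsNoetherianRing Γ(X, W) := IsLocallyNoetherian.component_noetherian ⟨W, hW⟩
  rw [assoc_iff hW x hxW, isAssociatedPrime_iff] at hx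
  obtain ⟨hprime, s, hs⟩ := hx
  have hs0 : X.presheaf.map (homOfLE (inf_le_left : W ⊓ U ≤ W)).op s = 0 := by
    apply eq_zero_of_germ
    intro y hy
    rw [TopCat.Presheaf.germ_res_apply]
    -- find τ ∈ p with y ∈ basicOpen τ
    have hτ : ∃ τ ∈ (hW.primeIdealOf ⟨x, hxW⟩).asIdeal, y ∈ X.basicOpen τ := by
      by_contra hcon
      push Not at hcon
      have hle : (hW.primeIdealOf ⟨x, hxW⟩).asIdeal ≤ (hW.primeIdealOf ⟨y, hy.1⟩).asIdeal := by
        intro τ hτ
        rw [mem_primeIdealOf_iff]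
        exact hcon τ hτ
      have hsp : hW.primeIdealOf ⟨x, hxW⟩ ⤳ hW.primeIdealOf ⟨y, hy.1⟩ :=
        (PrimeSpectrum.le_iff_specializes _ _).mp hle
      have hsp2 := hsp.map hW.fromSpec.continuous
      rw [hW.fromSpec_primeIdealOf, hW.fromSpec_primeIdealOf] at hsp2
      exact hxU (hsp2.mem_open U.isOpen hy.2)
    obtain ⟨τ, hτp, hyτ⟩ := hτ
    rw [Scheme.mem_basicOpen X τ y hy.1] at hyτ
    have hτs : τ * s = 0 := by
      rw [hs, Submodule.mem_colon_singleton] at hτp
      simpa using hτp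
    have := congrArg (X.presheaf.germ W y hy.1) hτs
    rw [map_mul, map_zero] at this
    exact (hyτ.mul_right_eq_zero).mp this
  have hs00 : s = 0 := by
    apply hU W
    rw [hs0, map_zero]
  apply hprime.ne_top
  rw [hs, hs00]
  ext a
  simp [Submodule.mem_colon_singleton]

/-- opens containing all associated points are schematically dense -/
lemma dense_of_assoc_mem [IsLocallyNoetherian X] (U : X.Opens)
    (h : ∀ x : X, IsAssociatedPrime (IsLocalRing.maximalIdeal (X.presheaf.stalk x))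
      (X.presheaf.stalk x) → x ∈ U) : CInt.IsSchematicallyDense U := by
  intro V
  rw [injective_iff_map_eq_zero]
  intro s hs
  apply eq_zero_of_germ
  intro y hy
  obtain ⟨_, ⟨W, hW : IsAffineOpen W, rfl⟩, hyW, hWV : W ≤ V⟩ :=
    X.isBasis_affineOpens.exists_subset_of_mem_open hy V.isOpen
  have : IsNoetherianRing Γ(X, W) := IsLocallyNoetherian.component_noetherian ⟨W, hW⟩
  rw [← TopCat.Presheaf.germ_res_apply X.presheaf (homOfLE hWV) y hyW]
  suffices hs' : X.presheaf.map (homOfLE hWV).op s = 0 by rw [hs', map_zero]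
  by_contra hne
  obtain ⟨P, hP, hle⟩ := exists_le_isAssociatedPrime_of_isNoetherianRing Γ(X, W) _ hne
  have hPprime : P.IsPrime := hP.isPrime
  have hxW : hW.fromSpec ⟨P, hPprime⟩ ∈ W := by
    have h1 : hW.fromSpec ⟨P, hPprime⟩ ∈ Set.range hW.fromSpec := ⟨_, rfl⟩
    rw [hW.range_fromSpec] at h1
    exact h1
  have hx : hW.fromSpec ⟨P, hPprime⟩ ∈ U := by
    apply h
    rw [assoc_iff hW _ hxW, primeIdealOf_fromSpec]
    exact hP
  -- germ at x of s' is zero
  have hg : X.presheaf.germ W _ hxW (X.presheaf.map (homOfLE hWV).op s) = 0 := by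
    have h1 := TopCat.Presheaf.germ_res_apply X.presheaf
      (homOfLE (inf_le_left : V ⊓ U ≤ V)) (hW.fromSpec ⟨P, hPprime⟩) ⟨hWV hxW, hx⟩ s
    rw [hs, map_zero] at h1
    rw [TopCat.Presheaf.germ_res_apply]
    exact h1.symm
  let _ := X.presheaf.algebra_section_stalk ⟨hW.fromSpec ⟨P, hPprime⟩, hxW⟩
  have hloc := hW.isLocalization_stalk ⟨hW.fromSpec ⟨P, hPprime⟩, hxW⟩
  rw [primeIdealOf_fromSpec] at hloc
  obtain ⟨m, hm⟩ := (IsLocalization.map_eq_zero_iff P.primeCompl
    (X.presheaf.stalk (hW.fromSpec ⟨P, hPprime⟩)) _).mp hg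
  apply m.2
  apply hle
  rw [Submodule.mem_colon_singleton]
  simpa using hm

end Groth.Agent.Lib.Helper6.SchDense
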