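import Mathlib
import Groth.Prelude.Def_CInt
import Groth.Agent.Lib.Helper6.GrpSch.Cat
import Groth.Agent.Lib.Helper6.SchDense.Basic

universe u
open CategoryTheory CategoryTheory.Limits AlgebraicGeometry TopologicalSpace
open MonoidalCategory CartesianMonoidalCategory MonObj
open Groth.Agent.Lib.Helper6.GrpSch.Cat

namespace Groth.Agent.Lib.Helper6.SchDense

/-- A schematically dense open is dense. -/
lemma dense_of_schDense {X : Scheme.{u}} {U : X.Opens} (hU : CInt.IsSchematicallyDense U) :
    Dense (U : Set X) := by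
  rw [dense_iff_inter_open]
  rintro V hV ⟨x, hxV⟩
  by_contra hne
  rw [Set.not_nonempty_iff_eq_empty] at hne
  let V' : X.Opens := ⟨V, hV⟩
  have hbot : V' ⊓ U = ⊥ := by
    ext y
    simp only [Opens.coe_inf, Opens.coe_bot]
    exact (congrArg (y ∈ ·) hne).to_iff
  have hinj := hU V'
  have h10 : (1 : Γ(X, V')) = 0 := by
    apply hinj
    have : Subsingleton Γ(X, V' ⊓ U) := by
      rw [hbot]
      exact CommRingCat.subsingleton_of_isTerminal X.sheaf.isTerminalOfEmpty
    exact Subsingleton.elim _ _
  have := congrArg (X.presheaf.germ V' x hxV) h10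
  rw [map_one, map_zero] at this
  exact one_ne_zero this

variable {S : Scheme.{u}}

lemma isOpenMap_left_of_iso {A B : Over S} (e : A ≅ B) : IsOpenMap e.hom.left :=
  (Scheme.homeoOfIso ((Over.forget S).mapIso e)).isOpenMap

variable (G : Over S) [GrpObj G]

/-- The residue field of a point, as a scheme over the base. -/
noncomputable def ptObj (x : G.left) : Over S :=
  Over.mk (G.left.fromSpecResidueField x ≫ G.hom)

/-- The canonical point with values in the residue field. -/
noncomputable def ptHom (x : G.left) : ptObj G x ⟶ G :=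
  Over.homMk (G.left.fromSpecResidueField x) rfl

lemma ptHom_left_apply (x : G.left) (t : (ptObj G x).left) : (ptHom G x).left t = x :=
  Scheme.fromSpecResidueField_apply _ _

instance (x : G.left) : Nonempty (ptObj G x).left :=
  inferInstanceAs (Nonempty (Spec (G.left.residueField x)))

instance (x : G.left) : Nonempty (G ⊗ ptObj G x).left :=
  ⟨(lift (ptHom G x) (𝟙 _)).left (Classical.arbitrary _)⟩

lemma mul_fibMap_apply (x : G.left) (w : (G ⊗ ptObj G x).left) :
    μ[G].left ((fibMap (ptHom G x)).left w) = x := by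
  rw [← Scheme.Hom.comp_apply, ← Over.comp_left, fibMap_mul, Over.comp_left,
    Scheme.Hom.comp_apply, ptHom_left_apply]

lemma fst_fibMap_apply (x : G.left) (w : (G ⊗ ptObj G x).left) :
    (fst G G).left ((fibMap (ptHom G x)).left w) = (fst G (ptObj G x)).left w := by
  rw [← Scheme.Hom.comp_apply, ← Over.comp_left, fibMap_fst]

lemma snd_fibMap_apply (x : G.left) (w : (G ⊗ ptObj G x).left) :
    (snd G G).left ((fibMap (ptHom G x)).left w) =
      (fst G (ptObj G x)).left ((twist (ptHom G x)).hom.left w) := by
  rw [← Scheme.Hom.comp_apply, ← Over.comp_left, fibMap_snd, Over.comp_left,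
    Scheme.Hom.comp_apply]

/-- If `U` is universally schematically dense in the group scheme `G`, then `U · U = G`. -/
theorem exists_mul_eq (U : G.left.Opens)
    (hU : ∀ (S' : Scheme.{u}) (g : S' ⟶ S),
      CInt.IsSchematicallyDense ((pullback.fst G.hom g) ⁻¹ᵁ U)) (x : G.left) :
    ∃ z : (G ⊗ G).left, μ[G].left z = x ∧ (fst G G).left z ∈ U ∧ (snd G G).left z ∈ U := by
  let p : (G ⊗ ptObj G x).left → G.left := (fst G (ptObj G x)).left
  let q : (G ⊗ ptObj G x).left → G.left :=
    fun w => (fst G (ptObj G x)).left ((twist (ptHom G x)).hom.left w)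
  have hpc : Continuous p := (fst G (ptObj G x)).left.continuous
  have h1 : Dense (p ⁻¹' (U : Set G.left)) := by
    have := dense_of_schDense (hU _ (ptObj G x).hom)
    exact this
  have h2 : Dense (q ⁻¹' (U : Set G.left)) :=
    h1.preimage (isOpenMap_left_of_iso (twist (ptHom G x)))
  have h1o : IsOpen (p ⁻¹' (U : Set G.left)) := U.isOpen.preimage hpc
  obtain ⟨w, hw1, hw2⟩ := (h1.inter_of_isOpen_left h2 h1o).nonempty
  refine ⟨(fibMap (ptHom G x)).left w, mul_fibMap_apply G x w, ?_, ?_⟩
  · rw [fst_fibMap_apply]; exact hw1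
  · rw [snd_fibMap_apply]; exact hw2

end Groth.Agent.Lib.Helper6.SchDense
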